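import Mathlib.RingTheory.Spectrum.Prime.FreeLocus
import Mathlib.RingTheory.LocalRing.Module
import Mathlib.Algebra.Homology.ShortComplex.ModuleCat
import Mathlib.Algebra.Homology.HomologicalComplex
import Mathlib.Algebra.Homology.ShortComplex.HomologicalComplex
import Mathlib.Algebra.Ring.NegOnePow
import Mathlib.LinearAlgebra.Dimension.Constructions
import Mathlib.Data.Int.Interval

/-!
# Euler characteristic of a complex of projectives that is generically exact
-/

set_option autoImplicit false

universe u v

open CategoryTheory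

namespace EulerLocLib

variable {R : Type u} [CommRing R] [IsLocalRing R] (L : ℤ → Type v) [∀ i, AddCommGroup (L i)]
  [∀ i, Module R (L i)] [∀ i, Module.Finite R (L i)] [∀ i, Module.Free R (L i)]
  (d : ∀ i, L i →ₗ[R] L (i + 1))

theorem free_ker (b : ℤ) (hex : ∀ i, Function.Exact (d i) (d (i + 1)))
    (hb : ∀ i, b < i → Subsingleton (L i)) :
    ∀ i, Module.Finite R (LinearMap.ker (d i)) ∧ Module.Free R (LinearMap.ker (d i)) := by
  intro i
  rcases lt_or_ge b i with hi | hi
  · haveI := hb i hi
    exact ⟨inferInstance, inferInstance⟩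
  · have key : ∀ i, i ≤ b + 1 → Module.Finite R (LinearMap.ker (d i)) ∧ Module.Free R (LinearMap.ker (d i)) := by
      intro i hi
      induction i, hi using Int.le_induction_down with
      | base =>
        haveI := hb (b + 1) (lt_add_one b)
        exact ⟨inferInstance, inferInstance⟩
      | pred i hi ih =>
        obtain ⟨j, rfl⟩ : ∃ j, i = j + 1 := ⟨i - 1, by ring⟩
        rw [add_sub_cancel_right]
        obtain ⟨hfin, hfree⟩ := ih
        let g : L j →ₗ[R] LinearMap.ker (d (j + 1)) :=
          (d j).codRestrict _ fun x => (hex j).apply_apply_eq_zero x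
        have hg : Function.Surjective g := fun y => by
          obtain ⟨x, hx⟩ := ((hex j) y.1).mp y.2
          exact ⟨x, Subtype.ext hx⟩
        obtain ⟨s, hs⟩ := Module.projective_lifting_property g LinearMap.id hg
        have hker : LinearMap.ker g = LinearMap.ker (d j) := LinearMap.ker_codRestrict _ _ _
        let p : L j →ₗ[R] LinearMap.ker g :=
          (LinearMap.id - s ∘ₗ g).codRestrict _ fun x => by
            have := LinearMap.congr_fun hs (g x)
            simp only [LinearMap.comp_apply, LinearMap.id_apply] at this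
            simp [this]
        have hp : p ∘ₗ (LinearMap.ker g).subtype = LinearMap.id := by
          ext x
          simp [p, (LinearMap.mem_ker.mp x.2)]
        haveI : Module.Projective R (LinearMap.ker g) := Module.Projective.of_split _ p hp
        haveI : Module.Finite R (LinearMap.ker g) :=
          Module.Finite.of_surjective p fun y => ⟨y, LinearMap.congr_fun hp y⟩
        haveI : Module.Free R (LinearMap.ker g) := Module.free_of_flat_of_isLocalRing
        rw [← hker]
        exact ⟨inferInstance, inferInstance⟩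
    exact key i (hi.trans (Int.le_add_one le_rfl))

theorem finrank_eq (b : ℤ) (hex : ∀ i, Function.Exact (d i) (d (i + 1)))
    (hb : ∀ i, b < i → Subsingleton (L i)) (i : ℤ) :
    Module.finrank R (L i) =
      Module.finrank R (LinearMap.ker (d i)) + Module.finrank R (LinearMap.ker (d (i + 1))) := by
  obtain ⟨_, _⟩ := free_ker L d b hex hb i
  obtain ⟨_, _⟩ := free_ker L d b hex hb (i + 1)
  let g : L i →ₗ[R] LinearMap.ker (d (i + 1)) :=
    (d i).codRestrict _ fun x => (hex i).apply_apply_eq_zero x
  have hg : Function.Surjective g := fun y => by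
    obtain ⟨x, hx⟩ := ((hex i) y.1).mp y.2
    exact ⟨x, Subtype.ext hx⟩
  obtain ⟨s, hs⟩ := Module.projective_lifting_property g LinearMap.id hg
  have hex' : Function.Exact (LinearMap.ker (d i)).subtype g := by
    rw [LinearMap.exact_iff, Submodule.range_subtype]
    exact LinearMap.ker_codRestrict _ _ _
  obtain ⟨e, -⟩ := (hex'.splitSurjectiveEquiv (LinearMap.ker (d i)).injective_subtype) ⟨s, hs⟩
  rw [e.finrank_eq, Module.finrank_prod]

theorem sum_telescope (f : ℤ → ℤ) (a : ℤ) : ∀ b, a ≤ b + 1 →
    ∑ i ∈ Finset.Icc a b, (f i - f (i + 1)) = f a - f (b + 1) := by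
  intro b hb
  obtain ⟨b, rfl⟩ : ∃ c, b = c - 1 := ⟨b + 1, by ring⟩
  rw [sub_add_cancel] at hb ⊢
  induction b, hb using Int.le_induction with
  | base => simp [Finset.Icc_eq_empty_of_lt]
  | succ b hb ih =>
    rw [add_sub_cancel_right]
    have : Finset.Icc a b = insert b (Finset.Icc a (b - 1)) := by
      ext x; simp only [Finset.mem_Icc, Finset.mem_insert]; omega
    rw [this, Finset.sum_insert (by simp), ih]
    ring

theorem sum_eq_zero (a b : ℤ) (hab : a ≤ b + 1) (hex : ∀ i, Function.Exact (d i) (d (i + 1)))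
    (hb : ∀ i, b < i → Subsingleton (L i)) (ha : ∀ i, i < a → Subsingleton (L i)) :
    ∑ i ∈ Finset.Icc a b, ((i.negOnePow : ℤˣ) : ℤ) * (Module.finrank R (L i) : ℤ) = 0 := by
  let f : ℤ → ℤ := fun i => ((i.negOnePow : ℤˣ) : ℤ) * (Module.finrank R (LinearMap.ker (d i)) : ℤ)
  have hf : ∀ i, ((i.negOnePow : ℤˣ) : ℤ) * (Module.finrank R (L i) : ℤ) = f i - f (i + 1) := fun i => by
    simp only [f, finrank_eq L d b hex hb i, Int.negOnePow_succ, Units.val_neg, Nat.cast_add]
    ring
  rw [Finset.sum_congr rfl fun i _ => hf i, sum_telescope f a b hab]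
  have h1 : f (b + 1) = 0 := by
    haveI := hb (b + 1) (lt_add_one b)
    simp [f, Module.finrank_zero_of_subsingleton]
  have h2 : f a = 0 := by
    obtain ⟨c, rfl⟩ : ∃ c, a = c + 1 := ⟨a - 1, by ring⟩
    haveI := ha c (lt_add_one c)
    have h := finrank_eq L d b hex hb c
    rw [Module.finrank_zero_of_subsingleton] at h
    have h0 : Module.finrank R (LinearMap.ker (d (c + 1))) = 0 := by omega
    simp [f, h0]
  rw [h1, h2, sub_zero]

end EulerLocLib

namespace EulerLocLib

variable {A : Type u} [CommRing A]

/-- Localized exactness from the vanishing of localized homology. -/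
theorem exact_localized (P : CochainComplex (ModuleCat.{u} A) ℤ) (q : PrimeSpectrum A) (i : ℤ)
    (h : Subsingleton (LocalizedModule q.asIdeal.primeCompl (P.homology (i + 1)))) :
    Function.Exact (LocalizedModule.map q.asIdeal.primeCompl (P.d i (i + 1)).hom)
      (LocalizedModule.map q.asIdeal.primeCompl (P.d (i + 1) (i + 1 + 1)).hom) := by
  intro y
  constructor
  · intro hy
    obtain ⟨z, t, rfl⟩ : ∃ z t, LocalizedModule.mk z t = y := by
      induction y using LocalizedModule.induction_on with
      | h z t => exact ⟨z, t, rfl⟩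
    rw [LocalizedModule.map_mk, ← LocalizedModule.zero_mk t, LocalizedModule.mk_eq] at hy
    obtain ⟨t', ht'⟩ := hy
    simp only [Submonoid.smul_def, smul_zero, smul_smul] at ht'
    rw [← map_smul] at ht'
    let S := P.sc' i (i + 1) (i + 1 + 1)
    let e : P.homology (i + 1) ≅ ModuleCat.of A _ :=
      P.homologyIsoSc' i (i + 1) (i + 1 + 1) (by simp) (by simp) ≪≫ S.moduleCatHomologyIso
    let z' : LinearMap.ker S.g.hom := ⟨((t' : A) * (t : A)) • z, ht'⟩
    let c := (LinearMap.range S.moduleCatToCycles).mkQ z'
    obtain ⟨t'', ht''⟩ := (LocalizedModule.subsingleton_iff (S := q.asIdeal.primeCompl)).mp h (e.inv c)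
    have hc : t'' • c = 0 := by
      have := congr_arg e.hom ht''.2
      rw [map_zero, map_smul] at this
      rwa [← ModuleCat.comp_apply, Iso.inv_hom_id] at this
    rw [← map_smul, Submodule.mkQ_apply, Submodule.Quotient.mk_eq_zero] at hc
    obtain ⟨w, hw⟩ := hc
    refine ⟨LocalizedModule.mk (w : P.X i) (⟨t'', ht''.1⟩ * (t' * (t * t))), ?_⟩
    have hw' : (P.d i (i + 1)).hom w = t'' • (((t' : A) * (t : A)) • z) := congr_arg Subtype.val hw
    rw [LocalizedModule.map_mk, hw', LocalizedModule.mk_eq]
    refine ⟨1, ?_⟩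
    simp only [Submonoid.smul_def, Submonoid.coe_mul, one_smul, smul_smul]
    congr 1
    ring
  · rintro ⟨x, rfl⟩
    induction x using LocalizedModule.induction_on with
    | h z t =>
      rw [LocalizedModule.map_mk, LocalizedModule.map_mk, ← ModuleCat.comp_apply, P.d_comp_d]
      exact LocalizedModule.zero_mk t

theorem euler_eq_zero (P : CochainComplex (ModuleCat.{u} A) ℤ) (s : Finset ℤ)
    (hP : ∀ i : ℤ, Module.Finite A (P.X i) ∧ Module.Projective A (P.X i))
    (hs : ∀ i : ℤ, i ∉ s → Limits.IsZero (P.X i)) (q : PrimeSpectrum A)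
    (h : ∀ i : ℤ, Subsingleton (LocalizedModule q.asIdeal.primeCompl (P.homology i))) :
    (s.sum fun i => ((i.negOnePow : ℤˣ) : ℤ) * (Module.rankAtStalk (R := A) (P.X i) q : ℤ)) = 0 := by
  haveI := fun i => (hP i).1
  haveI := fun i => (hP i).2
  obtain ⟨n, hn⟩ : ∃ n : ℕ, ∀ i ∈ s, i.natAbs ≤ n := ⟨s.sup Int.natAbs, fun i hi => Finset.le_sup hi⟩
  have hsub : s ⊆ Finset.Icc (-(n : ℤ)) n := fun i hi => by
    have := hn i hi
    simp only [Finset.mem_Icc]; omega
  let L : ℤ → Type u := fun i => LocalizedModule q.asIdeal.primeCompl (P.X i)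
  haveI : ∀ i, Module.Finite (Localization.AtPrime q.asIdeal) (L i) := fun i =>
    Module.Finite.of_isLocalizedModule q.asIdeal.primeCompl (LocalizedModule.mkLinearMap _ _)
  haveI : ∀ i, Module.Projective (Localization.AtPrime q.asIdeal) (L i) := fun i =>
    Module.projective_of_isLocalizedModule q.asIdeal.primeCompl (LocalizedModule.mkLinearMap _ _)
  haveI : ∀ i, Module.Free (Localization.AtPrime q.asIdeal) (L i) := fun i => Module.free_of_flat_of_isLocalRing
  have hz : ∀ i, i ∉ s → Subsingleton (L i) := fun i hi => by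
    haveI := ModuleCat.subsingleton_of_isZero (hs i hi)
    exact LocalizedModule.subsingleton_iff.mpr fun m => ⟨1, one_mem _, by rw [Subsingleton.elim m 0, smul_zero]⟩
  rw [Finset.sum_subset hsub (fun i _ hi => by
    haveI := ModuleCat.subsingleton_of_isZero (hs i hi)
    rw [Module.rankAtStalk_eq_zero_of_subsingleton, Pi.zero_apply, Nat.cast_zero, mul_zero])]
  refine Eq.trans (Finset.sum_congr rfl fun i _ => rfl) (sum_eq_zero (R := Localization.AtPrime q.asIdeal) L
    (fun i => LocalizedModule.map q.asIdeal.primeCompl (P.d i (i + 1)).hom) (-(n : ℤ)) n (by omega)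
    (fun i => exact_localized P q i (h (i + 1))) (fun i hi => hz i fun his => ?_) fun i hi => hz i fun his => ?_)
  · have := hn i his; omega
  · have := hn i his; omega

end EulerLocLib
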